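import Cfsg.Statements.S4926
import Cfsg.Agent.Lib.K0.Gen
import Cfsg.Agent.Lib.K0.Quat

set_option autoImplicit false
open Cfsg

namespace Cfsg.Agent.S4926

section
open Cfsg.Agent.H3 Cfsg.Agent.H5 Cfsg.Agent.K0 Finset

variable {p : ℕ} [hp : Fact p.Prime] {M : Ideal AlgInt} [PMod p M] {G : Type*} [Group G] [Finite G]

theorem exists_short {ι : Type*} [Fintype ι] [DecidableEq ι] (r : ι → ℤ) (o : ι) (ho : r o = 1)
    (hS5 : (univ.filter fun χ => ¬ (p : ℤ) ∣ r χ).card = 5) (h2 : (p : ℤ) ∣ ∑ χ, r χ ^ 2) :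
    ∃ (t : ℤ) (U : ι → ℤ), ¬ (p : ℤ) ∣ t ∧ (∀ χ, (p : ℤ) ∣ t * r χ - U χ) ∧
      ∑ χ, (2 * U χ - if χ = o then (p : ℤ) else 0) ^ 2 ≤ (p : ℤ) ^ 2 := by
  set S : Finset ι := univ.filter fun χ => ¬ (p : ℤ) ∣ r χ with hS
  have hp1 : (1 : ℤ) < p := by exact_mod_cast hp.out.one_lt
  have h1 : o ∈ S := by
    rw [hS, mem_filter, ho]
    exact ⟨mem_univ _, fun e => by have := Int.le_of_dvd one_pos e; omega⟩
  have hsum : (p : ℤ) ∣ ∑ χ ∈ S, r χ ^ 2 := by
    rw [← sum_filter_add_sum_filter_not univ fun χ => ¬ (p : ℤ) ∣ r χ] at h2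
    refine (dvd_add_left (dvd_sum fun χ hχ => ?_)).1 h2
    exact dvd_pow (not_not.1 (mem_filter.1 hχ).2) two_ne_zero
  have hp2 : p ≠ 2 := by
    rintro rfl
    have : ∀ χ ∈ S, (2 : ℤ) ∣ r χ ^ 2 - 1 := fun χ hχ => by
      have h3 : ¬ (2 : ℤ) ∣ r χ := by exact_mod_cast (mem_filter.1 hχ).2
      obtain ⟨k, hk⟩ : ∃ k, r χ = 2 * k + 1 := ⟨r χ / 2, by omega⟩
      exact ⟨2 * k ^ 2 + 2 * k, by rw [hk]; ring⟩
    have h4 := dvd_sum this
    rw [sum_sub_distrib, sum_const, hS5] at h4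
    have h5 := dvd_sub hsum h4
    norm_num at h5
  have hT : (S.erase o).card = 4 := by rw [card_erase_of_mem h1, hS5]
  let e : Fin 4 ≃ (S.erase o) := (Finset.equivFinOfCardEq hT).symm
  have hsum' : ∀ f : ι → ℤ, ∑ χ ∈ S, f χ = f o + ∑ i, f (e i) := fun f => by
    rw [← add_sum_erase S f h1, ← sum_coe_sort (S.erase _), ← e.sum_comp]
  obtain ⟨t, u, ht0, htp, hu, hN⟩ := quat p hp1
    (by exact_mod_cast hp.out.odd_of_ne_two hp2) (fun i => r (e i)) (by
      rwa [hsum' fun χ => r χ ^ 2, ho, one_pow] at hsum)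
  let U : ι → ℤ := fun χ =>
    if χ = o then t else if hχ : χ ∈ S.erase o then u (e.symm ⟨χ, hχ⟩) else 0
  have hUe : ∀ i, U (e i) = u i := fun i => by
    simp only [U, if_neg (ne_of_mem_erase (e i).2), dif_pos (e i).2, Subtype.coe_eta,
      Equiv.symm_apply_apply]
  have hU0 : ∀ χ, χ ∉ S → U χ = 0 ∧ χ ≠ o := fun χ hχ => by
    have h2 : χ ≠ o := fun e => hχ (e ▸ h1)
    exact ⟨by simp only [U, if_neg h2, dif_neg fun h3 => hχ (mem_of_mem_erase h3)], h2⟩
  have hUo : U o = t := if_pos rfl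
  refine ⟨t, U, fun e => by have := Int.le_of_dvd ht0 e; omega, fun χ => ?_, ?_⟩
  · by_cases h2 : χ ∈ S
    · by_cases h3 : χ = o
      · rw [h3, hUo, ho, mul_one, sub_self]
        exact dvd_zero _
      · obtain ⟨i, hi⟩ := e.surjective ⟨χ, mem_erase.2 ⟨h3, h2⟩⟩
        have : χ = e i := by rw [hi]
        rw [this, hUe, ← dvd_neg, neg_sub]
        exact hu i
    · rw [(hU0 χ h2).1, sub_zero]
      refine Dvd.dvd.mul_left ?_ _
      by_contra h3
      exact h2 (mem_filter.2 ⟨mem_univ _, h3⟩)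
  · rw [← sum_subset (subset_univ S) fun χ _ hχ => by simp [(hU0 χ hχ).1, (hU0 χ hχ).2], hsum']
    have : ∀ i, (2 * U (e i) - if (e i : ι) = o then (p : ℤ) else 0) ^ 2 =
        4 * u i ^ 2 := fun i => by
      rw [hUe, if_neg (ne_of_mem_erase (e i).2)]; ring
    simp only [this, ← mul_sum, hN, hUo, if_true]
    nlinarith

theorem card_of_five (P : Sylow p G)
    (h : Nat.card {χ : IrrCharacter G // χ ∈ principalBlock M G ∧
      ¬ p ∣ charDegree (χ : G → ℂ)} = 5) : Nat.card P = p := by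
  classical
  have hG := dvd_card_of_count (by norm_num) h
  obtain ⟨t, U, h1, h2, h3⟩ := exists_short (p := p) (rr M) (trivChar G) (rr_triv (p := p)) (by
    rw [← h, Nat.card_eq_fintype_card, Fintype.card_subtype]
    congr 1
    ext χ
    simp only [mem_filter, mem_univ, true_and]
    exact dvd_rr_iff χ) (dvd_sum_rr_sq hG)
  exact card_eq_of_norm (M := M) hG P t h1 U h2 (by simpa only [Nat.cast_ite, Nat.cast_zero] using h3)

theorem count_eq (P : Sylow p G) (hP : Nat.card P = p) : ∃ t : ℕ,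
    t * Nat.card (autE (P : Subgroup G)) + 1 = p ∧
    Nat.card {χ : IrrCharacter G // χ ∈ principalBlock M G ∧ ¬ p ∣ charDegree (χ : G → ℂ)} =
      Nat.card (autE (P : Subgroup G)) + t := by
  obtain ⟨t, ht, h1, h2⟩ := principal_of_card_eq (M := M) hP (freeAb_of_card P hP)
  refine ⟨t, ht, h1 ▸ Nat.card_congr (Equiv.subtypeEquivRight fun χ => ⟨fun h => h.1,
    fun h => ⟨h, fun hd => ?_⟩⟩)⟩
  have hd' : (p : ℤ) ∣ charDegree (χ : G → ℂ) := by exact_mod_cast hd
  have hp1 : ¬ (p : ℤ) ∣ 1 := fun e => by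
    have := Int.le_of_dvd one_pos e
    have := hp.out.one_lt
    omega
  have hpe : ¬ (p : ℤ) ∣ Nat.card (autE (P : Subgroup G)) := fun e => hp1 (by
    have h3 : (p : ℤ) = t * Nat.card (autE (P : Subgroup G)) + 1 := by exact_mod_cast ht.symm
    exact (dvd_add_right (e.mul_left t)).1 (h3 ▸ dvd_rfl))
  rcases h2 χ h with h3 | h3 | h3 | h3 <;> have h4 := h3.dvd_iff.1 hd'
  · exact hp1 h4
  · exact hp1 (dvd_neg.1 h4)
  · exact hpe h4
  · exact hpe (dvd_neg.1 h4)

end

/-- Let G be a finite group, p a prime, M a maximal ideal of the algebraic integers containing p, and P a Sylow p-subgroup of G with normalizer N and centralizer C. Then the principal p-block of G contains exactly five irreducible characters of degree not divisible by p if and only if either P has order 5 and the index of C in N is 1 or 4, or P has order 7 and the index of C in N is 2 or 3. -/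
theorem result {G : Type*} [Group G] [Finite G] (p : ℕ) [Fact p.Prime] (M : Ideal Cfsg.AlgInt) (hM : Cfsg.IsPModular p M) (P : Sylow p G) :
    Nat.card {χ : Cfsg.IrrCharacter G // χ ∈ Cfsg.principalBlock M G ∧ ¬ p ∣ Cfsg.charDegree (χ : G → ℂ)} = 5 ↔
      ((Nat.card P = 5 ∧ ((Subgroup.centralizer ((P : Subgroup G) : Set G)).relIndex (Subgroup.normalizer ((P : Subgroup G) : Set G)) = 1 ∨ (Subgroup.centralizer ((P : Subgroup G) : Set G)).relIndex (Subgroup.normalizer ((P : Subgroup G) : Set G)) = 4)) ∨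
        (Nat.card P = 7 ∧ ((Subgroup.centralizer ((P : Subgroup G) : Set G)).relIndex (Subgroup.normalizer ((P : Subgroup G) : Set G)) = 2 ∨ (Subgroup.centralizer ((P : Subgroup G) : Set G)).relIndex (Subgroup.normalizer ((P : Subgroup G) : Set G)) = 3))) := by
  have : H5.PMod p M := ⟨hM⟩
  have hp : p.Prime := Fact.out
  rw [← H3.card_autE]
  constructor
  · intro h
    have hP := card_of_five P h
    obtain ⟨t, ht, h1⟩ := count_eq (M := M) P hP
    rw [h] at h1
    rw [hP]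
    generalize Nat.card (H3.autE (P : Subgroup G)) = e at ht h1
    obtain rfl : t = 5 - e := by omega
    have he : e ≤ 5 := by omega
    have h2 := hp.one_lt
    interval_cases e <;> omega
  · intro h
    have hP : Nat.card P = p := by
      obtain ⟨n, hn⟩ := IsPGroup.iff_card.1 P.isPGroup'
      have hq : (Nat.card P).Prime := by
        rcases h with ⟨h, -⟩ | ⟨h, -⟩ <;> rw [h] <;> norm_num
      rw [hn] at hq ⊢
      rw [hq.eq_one_of_pow, pow_one]
    obtain ⟨t, ht, h1⟩ := count_eq (M := M) P hP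
    rw [h1]
    rw [hP] at h
    generalize Nat.card (H3.autE (P : Subgroup G)) = e at ht h
    rcases h with ⟨h, rfl | rfl⟩ | ⟨h, rfl | rfl⟩ <;> omega

end Cfsg.Agent.S4926
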