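import Cfsg.Statements.S5316
import Cfsg.Agent.Lib.H9.McEss

set_option autoImplicit false
open Cfsg

namespace Cfsg.Agent.S5316

/-- Let p ≥ 5 be a prime, S a finite p-group of maximal class of order p^n with n ≥ 5 (nilpotency class n − 1), F a saturated fusion system over S, and E an F-essential subgroup that is not a pearl (not elementary abelian of order p² and not extraspecial of order p³ and exponent p). Then E has order at least p⁴. -/
theorem result {Ω : Type*} [Group Ω] {S : Subgroup Ω} [Finite S] (p : ℕ) [Fact p.Prime] (hp : 5 ≤ p) (hS : IsPGroup p ↥S) (n : ℕ) (hn : Nat.card S = p ^ n) (h5 : 5 ≤ n)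
    (hmax : Subgroup.lowerCentralSeries S (n - 2) ≠ ⊥) (F : Cfsg.FusionSystem S) (hF : F.IsSaturated p)
    (E : Subgroup Ω) (hE : F.IsEssential p E)
    (hnp : ¬ ((Nat.card ↥E = p ^ 2 ∧ Cfsg.IsElementaryAbelian p E) ∨ (Nat.card ↥E = p ^ 3 ∧ Cfsg.IsExtraspecial p ↥E ∧ Monoid.exponent ↥E = p))) :
    p ^ 4 ≤ Nat.card ↥E := by
  have hp' := (Fact.out : p.Prime)
  have := H9.finite_of_le hE.le
  obtain ⟨t, ht⟩ := H9.exists_radT hS hE
  obtain ⟨k, hk⟩ := H9.exists_card_eq_pow (hS.to_le hE.le)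
  have h2 := (ht.sq_dvd (hS.to_le hE.le)).trans (Subgroup.index_dvd_card _)
  rw [hk, Nat.pow_dvd_pow_iff_le_right hp'.one_lt] at h2
  have hea : H9.Phi p (⊤ : Subgroup E) = ⊥ → IsElementaryAbelian p E := fun h => by
    obtain ⟨h1, h2⟩ := H9.isElementaryAbelian_iff.1 (H9.Phi_eq_bot_iff.1 h)
    exact H9.isElementaryAbelian_iff.2 ⟨fun a ha b hb =>
      congrArg Subtype.val (h1 ⟨a, ha⟩ trivial ⟨b, hb⟩ trivial),
      fun a ha => congrArg Subtype.val (h2 ⟨a, ha⟩ trivial)⟩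
  rcases (by omega : k = 2 ∨ k = 3 ∨ 4 ≤ k) with rfl | rfl | h4
  · exact (hnp (Or.inl ⟨hk, hea (ht.card_sq hk).1⟩)).elim
  · rcases ht.card_cube hk with h | ⟨-, h1, h2⟩ | ⟨rfl, -⟩
    · obtain ⟨h1, h2⟩ := H9.isElementaryAbelian_iff.1 (hea h)
      exact (H9.Bad.false ⟨⟨hS, hn, by omega, hmax⟩, hp, h5, hF, hE, hk, h1, h2⟩).elim
    · have : Nontrivial E := Finite.one_lt_card_iff_nontrivial.1
        (hk ▸ Nat.one_lt_pow (by omega) hp'.one_lt)
      exact (hnp (Or.inr ⟨hk, h1, (Monoid.exponent_eq_prime_iff hp').2 fun g hg =>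
        orderOf_eq_prime (h2 g) hg⟩)).elim
    · omega
  · rw [hk]; exact Nat.pow_le_pow_right hp'.pos h4

end Cfsg.Agent.S5316
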