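import Cfsg.Statements.S0923
import Cfsg.Agent.Lib.H5.Induced
import Cfsg.Agent.Lib.H3.Section

set_option autoImplicit false
open Cfsg

namespace Cfsg.Agent.S0923

/-- Brauer's Second Main Theorem, in terms of ordinary characters. Let x be a p-element of the finite group G with centralizer C, let χ lie in the block B of G and let b be a block of C that does not induce B (relative to a maximal ideal M of the algebraic integers containing p). Form the class function ϑ(c) = χ(x c) on C and its b-part (the sum over ψ ∈ b of the inner product of ϑ with ψ, times ψ). Then the b-part of ϑ vanishes at every p-regular element of C. (Equivalently, the generalized decomposition numbers of χ with respect to b are zero.) -/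
theorem result {G : Type*} [Group G] [Finite G] (p : ℕ) [Fact p.Prime] (M : Ideal Cfsg.AlgInt) (hM : Cfsg.IsPModular p M) (x : G) (hx : ∃ k : ℕ, orderOf x = p ^ k) (B : Set (Cfsg.IrrCharacter G)) (hB : Cfsg.IsPBlock M B) (χ : Cfsg.IrrCharacter G) (hχ : χ ∈ B) (b : Set (Cfsg.IrrCharacter (Subgroup.centralizer ({x} : Set G)))) (hb : Cfsg.IsPBlock M b) (hnot : ¬ Cfsg.IsInducedBlock M (Subgroup.centralizer ({x} : Set G)) b B) (y : Subgroup.centralizer ({x} : Set G)) (hy : ¬ p ∣ orderOf y) : Cfsg.blockPart b (fun c : Subgroup.centralizer ({x} : Set G) => (χ : G → ℂ) (x * (c : G))) y = 0 := by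
  have : H5.PMod p M := ⟨hM⟩
  have := Fintype.ofFinite (Subgroup.centralizer ({x} : Set G))
  have hxH : x ∈ Subgroup.centralizer ({x} : Set G) :=
    Subgroup.mem_centralizer_singleton_iff.2 rfl
  have hzp : Subgroup.centralizer (Subgroup.zpowers x : Set G) =
      Subgroup.centralizer ({x} : Set G) := by
    ext z
    rw [← H5.le_centralizer_singleton_iff, Subgroup.zpowers_le,
      Subgroup.mem_centralizer_singleton_iff, Subgroup.mem_centralizer_singleton_iff, eq_comm]
  obtain ⟨B', hB'⟩ := H5.exists_ind (H5.isPGroup_zpowers hx) (Subgroup.zpowers_le.2 hxH) hzp.le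
    (hzp.ge.trans (Subgroup.centralizer_le_normalizer _)) hb
  have hχ' : χ ∉ B' := fun h => hnot (H5.blk_eq_of_mem hB hB'.2.1 hχ h ▸ hB')
  have hc : ∀ c : Subgroup.centralizer ({x} : Set G), Commute x c := fun c =>
    (Subgroup.mem_centralizer_singleton_iff.1 c.2).symm
  have h1 := H5.second_main hB' (⟨x, hxH⟩ * y) (by
    rw [Subgroup.coe_mul, H5.pPart_mul (hc y) hx (by rwa [Subgroup.orderOf_coe])]) hχ'
  rw [← H5.inc_single, ← map_mul, H5.ev_inc, H5.ev_mul_single] at h1
  rw [H5.blockPart_eq, H5.ev_mul_single, ← h1]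
  · refine Finset.sum_congr rfl fun k _ => ?_
    simp only [Subgroup.coe_mul]
    rw [← mul_assoc, (hc k).eq, mul_assoc]
  · intro g h
    simp only [Subgroup.coe_mul, Subgroup.coe_inv]
    rw [← H3.irr_conj χ (x * g) h, ← mul_assoc, ← mul_assoc, (hc h).eq, mul_assoc (h : G) x]

end Cfsg.Agent.S0923
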