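import Cfsg.Statements.S1170
import Cfsg.Agent.Lib.C2.Main
import Cfsg.Agent.Lib.BD.Main

set_option autoImplicit false
open Cfsg

namespace Cfsg.Agent.S1170

/-- Let G be a finite simple group and S a Sylow 2-subgroup of G containing a subgroup A of nilpotency class two (A is not commutative and its commutator subgroup is central in A) that is strongly closed in S. Then G is isomorphic to PSL(2,F) with the number of elements of F congruent to 7 or 9 modulo 16, to PSU(3) over a field with q² elements for q ≥ 4 a power of 2, to a simple group with the order of a Suzuki group, to PSL(3,F) or PSp(4,F) over a finite field F of characteristic 2 (with at least 4 elements in the symplectic case), or to the alternating group of degree 7. -/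
theorem result {G : Type*} [Group G] [Finite G] [IsSimpleGroup G] (S : Sylow 2 G) (A : Subgroup G) (hAS : Cfsg.IsStronglyClosed A (S : Subgroup G)) (hA1 : ¬ IsMulCommutative A) (hA2 : ⁅(⊤ : Subgroup A), ⊤⁆ ≤ Subgroup.center A) : (∃ (F : Type) (_ : Field F) (_ : Fintype F), (Fintype.card F % 16 = 7 ∨ Fintype.card F % 16 = 9) ∧ Nonempty (G ≃* Matrix.ProjectiveSpecialLinearGroup (Fin 2) F)) ∨ (∃ (F : Type) (_ : Field F) (_ : Fintype F) (q : ℕ), Fintype.card F = q ^ 2 ∧ Even q ∧ 4 ≤ q ∧ Nonempty (G ≃* Cfsg.PSU 3 F q)) ∨ Cfsg.IsSuzuki G ∨ (∃ (F : Type) (_ : Field F) (_ : Fintype F), CharP F 2 ∧ Nonempty (G ≃* Matrix.ProjectiveSpecialLinearGroup (Fin 3) F)) ∨ (∃ (F : Type) (_ : Field F) (_ : Fintype F), CharP F 2 ∧ 4 ≤ Fintype.card F ∧ Nonempty (G ≃* Cfsg.PSp 2 F)) ∨ Nonempty (G ≃* alternatingGroup (Fin 7)) := by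
  by_cases hse : G74.SE G
  · obtain ⟨H, hH⟩ := hse
    obtain ⟨Q, D, t, h, -⟩ := BD.bender_simple hH
    rcases h.classify with ⟨F, _, _, _, -, ⟨e⟩⟩ | a | a
    · refine (hA1 ⟨⟨fun x y => Subtype.ext ?_⟩⟩).elim
      have k : ∀ x : A, (x : G) * x = 1 := fun x => by
        obtain ⟨k, hk⟩ := S.isPGroup'.to_le hAS.1 x
        exact e.injective (by
          rw [map_mul, map_one]
          exact C2.psl_sq _ k (by rw [← map_pow, ← Subgroup.coe_pow, hk]; simp))
      have i : ∀ x : A, x⁻¹ = x := fun x => inv_eq_of_mul_eq_one_right (Subtype.ext (k x))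
      rw [← i (x * y), mul_inv_rev, i, i]
    · exact Or.inr (Or.inr (Or.inl a))
    · exact Or.inr (Or.inl a)
  obtain ⟨B, hB⟩ := C2.exists_min S hAS hA1 (Subgroup.commutator_le.2 fun x hx y hy a ha =>
    congrArg Subtype.val (Subgroup.mem_center_iff.1 (hA2 (Subgroup.commutator_mem_commutator
      (Subgroup.mem_top (⟨x, hx⟩ : A)) (Subgroup.mem_top ⟨y, hy⟩))) ⟨a, ha⟩)) hse
  exact (hB.main hse).imp_right fun a => Or.inr (Or.inr a)

end Cfsg.Agent.S1170
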