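import Cfsg.Statements.S1250
import Cfsg.Agent.Lib.H6.Transfer

set_option autoImplicit false
open Cfsg

namespace Cfsg.Agent.S1250

/-- Let S be a Sylow p-subgroup of the finite group G, A ≤ S strongly closed in S, and N a normal subgroup. Then the image of A in G ⧸ N is strongly closed in the image of S (which is a Sylow p-subgroup of G ⧸ N). -/
theorem result {G : Type*} [Group G] [Finite G] {p : ℕ} [Fact p.Prime] (S : Sylow p G) (A : Subgroup G) (hA : Cfsg.IsStronglyClosed A (S : Subgroup G)) (N : Subgroup G) [N.Normal] : Cfsg.IsStronglyClosed (A.map (QuotientGroup.mk' N)) ((S : Subgroup G).map (QuotientGroup.mk' N)) := by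
  refine ⟨Subgroup.map_mono hA.1, ?_⟩
  rintro _ ⟨x, hx, rfl⟩ g ⟨s, hs, he⟩
  obtain ⟨g, rfl⟩ := QuotientGroup.mk'_surjective N g
  rw [← map_inv, ← map_mul, ← map_mul] at he ⊢
  have h1 : g * x * g⁻¹ ∈ (S : Subgroup G) ⊔ N := by
    obtain ⟨n, hn, hsn⟩ := (QuotientGroup.mk'_eq_mk' N).1 he
    rw [← hsn]
    exact Subgroup.mul_mem_sup hs hn
  obtain ⟨k, hk⟩ := H6.isPGroup_subgroup_iff.1 S.isPGroup' x (hA.1 hx)
  obtain ⟨h, hh, hm⟩ := (H6.sylIn_of_le S (H := (S : Subgroup G) ⊔ N) le_sup_left).exists_conj_mem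
    h1 (k := k) (by rw [conj_pow, hk]; group)
  have h2 : h * (g * x * g⁻¹) * h⁻¹ ∈ A := by
    have := hA.2 x hx (h * g) (by simpa [mul_assoc] using hm)
    simpa [mul_assoc] using this
  rw [← SetLike.mem_coe, Subgroup.mul_normal] at hh
  obtain ⟨s', hs', n, hn, rfl⟩ := hh
  have h3 := H6.conj_mem_of_mem_normalizer'
    (H6.stronglyClosed_le_normalizer hA S.isPGroup' hA.1 hs') h2
  refine ⟨_, h3, ?_⟩
  have h4 : QuotientGroup.mk' N n = 1 := (QuotientGroup.eq_one_iff n).2 hn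
  simp only [map_mul, map_inv, h4]
  group

end Cfsg.Agent.S1250
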