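import Cfsg.Statements.S4997
import Cfsg.Agent.Lib.H4.Van1

set_option autoImplicit false
open Cfsg

namespace Cfsg.Agent.S4997

/-- Let p be an odd prime and G a finite solvable group with exactly one conjugacy class consisting of vanishing elements (elements at which some irreducible complex character is zero) of order divisible by p. Let P be a Sylow p-subgroup of G. Then the order of P is at most p times the order of the largest normal p-subgroup of G. -/
theorem result {G : Type*} [Group G] [Finite G] (hsolv : Group.IsSolvable G) (p : ℕ) [Fact p.Prime] (hp : p ≠ 2) (h1 : Set.ncard {C : ConjClasses G | (∀ g ∈ C.carrier, ∃ χ : Cfsg.IrrCharacter G, (χ : G → ℂ) g = 0) ∧ ∃ g ∈ C.carrier, p ∣ orderOf g} = 1) (P : Sylow p G) : Nat.card ↥(P : Subgroup G) ≤ p * Nat.card ↥(Cfsg.pCore p G) := by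
  have hp' : p.Prime := Fact.out
  obtain ⟨C, hC⟩ := Set.ncard_eq_one.1 h1
  have h : H4.OneVan p G := fun x y hx hy hx' hy' => by
    have k : ∀ x : G, (∃ χ : IrrCharacter G, (χ : G → ℂ) x = 0) → p ∣ orderOf x →
        ConjClasses.mk x = C := fun x ⟨χ, hx⟩ hx' => hC.le ⟨fun g hg => ⟨χ, by
      rw [← H3.IsClassFunction_of_isConj (H3.IsCharacter_isClassFunction (H4.irr_isChar χ))
        (ConjClasses.mk_eq_mk_iff_isConj.1 (ConjClasses.mem_carrier_iff_mk_eq.1 hg)).symm, hx]⟩,
      x, ConjClasses.mem_carrier_mk, hx'⟩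
    exact ConjClasses.mk_eq_mk_iff_isConj.1 ((k x hx hx').trans (k y hy hy').symm)
  have h2 := H4.OneVan.not_dvd _ (G ⧸ pCore p G) rfl (h.map (QuotientGroup.mk'_surjective _))
    (H1.pCore_quotient_pCore p G)
  obtain ⟨k, hk⟩ := IsPGroup.iff_card.1 (H1.pCore_isPGroup p G)
  rw [hp'.pow_dvd_iff_le_factorization Nat.card_pos.ne'] at h2
  rw [P.card_eq_multiplicity, Subgroup.card_eq_card_quotient_mul_card_subgroup (pCore p G), hk,
    Nat.factorization_mul Nat.card_pos.ne' (pow_pos hp'.pos k).ne', Finsupp.add_apply,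
    hp'.factorization_pow, Finsupp.single_eq_same, ← pow_succ']
  exact Nat.pow_le_pow_right hp'.pos (by omega)

end Cfsg.Agent.S4997
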