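import Cfsg.Statements.S5109
import Cfsg.Agent.Lib.H1.StK
import Cfsg.Agent.Lib.G74.Main

set_option autoImplicit false
open Cfsg

namespace Cfsg.Agent.S5109

/-- A saturated fusion system over a finite 2-group S in which no automorphism group Aut_F(U), U ≤ S, has a section isomorphic to the symmetric group of degree 3 is constrained. -/
theorem result {Ω : Type*} [Group Ω] {S : Subgroup Ω} [Finite S] (hS : IsPGroup 2 S) (F : Cfsg.FusionSystem S) (hF : F.IsSaturated 2) (h3 : ∀ U : Subgroup Ω, U ≤ S → ¬ Cfsg.Involves (Equiv.Perm (Fin 3)) ↥(F.autGroup U)) : F.IsConstrained 2 :=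
  St.constrained_of_s3_free
    (fun _ _ _ _ _ _ hH => let ⟨Q, D, t, h, _⟩ := BD.bender_simple hH; ⟨Q, D, t, h⟩)
    (fun _ _ _ _ S _ h1 h2 h3 => G74.goldschmidt S h1 h2 h3) hS hF h3

end Cfsg.Agent.S5109
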