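import Cfsg.Statements.S5177
import Cfsg.Agent.Lib.EX.Main
import Cfsg.Agent.Lib.EX.Red
import Cfsg.Agent.Lib.EX.RelIso
import Cfsg.Agent.Lib.EX.SL4
import Cfsg.Agent.Lib.EX.SU4
import Cfsg.Agent.Lib.EX.G2

set_option autoImplicit false
universe u
open Cfsg

namespace Cfsg.Agent.S5177

/-- Let p be an odd prime, S a finite p-group of order at least p⁶ containing an extraspecial subgroup Q of index p, and F a saturated fusion system over S whose largest subgroup normal in F is trivial. Then S is isomorphic to a Sylow p-subgroup of SL(4,p), to a Sylow p-subgroup of SU(4,p), to a Sylow p-subgroup of G₂(p) with p ≥ 5, or p ≥ 11 and S has order p^(p−1), exponent p and maximal nilpotency class. -/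
theorem result {Ω : Type u} [Group Ω] {S : Subgroup Ω} [Finite S] (p : ℕ) [Fact p.Prime] (hp : Odd p) (hS : IsPGroup p S)
    (Q : Subgroup Ω) (hQS : Q ≤ S) (hQ : Cfsg.IsExtraspecial p ↥Q) (hQi : (Q.subgroupOf S).index = p)
    (h6 : p ^ 6 ≤ Nat.card S)
    (F : Cfsg.FusionSystem S) (hF : F.IsSaturated p) (hO : F.core = ⊥) [Group.IsNilpotent ↥S] :
    (∃ P : Sylow p (Matrix.SpecialLinearGroup (Fin 4) (ZMod p)),
        Nonempty (↥S ≃* ↥(P : Subgroup (Matrix.SpecialLinearGroup (Fin 4) (ZMod p))))) ∨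
      (∃ (K : Type) (_ : Field K) (_ : Fintype K), Fintype.card K = p ^ 2 ∧
        ∃ P : Sylow p ↥(Cfsg.SU 4 K p), Nonempty (↥S ≃* ↥(P : Subgroup ↥(Cfsg.SU 4 K p)))) ∨
      (5 ≤ p ∧ ∃ P : Sylow p ↥(Cfsg.Lie.G2 (ZMod p)), Nonempty (↥S ≃* ↥(P : Subgroup ↥(Cfsg.Lie.G2 (ZMod p))))) ∨
      (11 ≤ p ∧ Nat.card S = p ^ (p - 1) ∧ (∀ x : ↥S, x ^ p = 1) ∧ Group.nilpotencyClass ↥S = p - 2) := by
  have hp2 : p ≠ 2 := by
    rintro rfl
    exact absurd hp (by decide)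
  obtain ⟨G, _, _, S', Q', Z, R, Γ, ⟨φ⟩, hL⟩ := EX.exists_loc hp2 hS hQS hQ hQi h6 F hF hO
  have hp1 : ¬ (p : ℤ) ∣ -1 := by
    rw [Int.dvd_neg]
    exact_mod_cast (Fact.out : p.Prime).not_dvd_one
  rcases hL.out with ⟨hc, e, x, y, d, w, z, hle, hz, hr | ⟨c, hc', hr⟩ | ⟨h5, hr⟩⟩ | ⟨h1, h2, h3, h4⟩
  · obtain ⟨⟨e', x', y', d', w', z', hr', hz'⟩, hB⟩ := EX.model_SL4 p
    obtain ⟨P, ⟨ψ⟩⟩ := hr.iso_sylow hz hr' hz' hp1 (Or.inl ⟨rfl, rfl⟩) hc hle hB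
    exact Or.inl ⟨P, ⟨φ.trans ψ⟩⟩
  · obtain ⟨K, _, _, hK, ⟨e', x', y', d', w', z', hr', hz'⟩, hB⟩ := EX.model_SU4 p hp c hc'
    have hc0 : ¬ (p : ℤ) ∣ c := fun hd => hc' (by
      rw [(ZMod.intCast_zmod_eq_zero_iff_dvd c p).2 hd]
      exact ⟨0, by simp⟩)
    obtain ⟨P, ⟨ψ⟩⟩ := hr.iso_sylow hz hr' hz' hc0 (Or.inr ⟨rfl, rfl⟩) hc hle hB
    exact Or.inr (Or.inl ⟨K, _, _, hK, P, ⟨φ.trans ψ⟩⟩)
  · obtain ⟨⟨e', x', y', d', w', z', hr', hz'⟩, hB⟩ := EX.model_G2 p h5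
    obtain ⟨P, ⟨ψ⟩⟩ := hr.iso_sylow hz hr' hz' hp1 (Or.inl ⟨rfl, rfl⟩) hc hle hB
    exact Or.inr (Or.inr (Or.inl ⟨h5, P, ⟨φ.trans ψ⟩⟩))
  · refine Or.inr (Or.inr (Or.inr ⟨h1, (Nat.card_congr φ.toEquiv).trans h2, fun x => ?_, ?_⟩))
    · apply φ.injective
      rw [map_pow, map_one]
      exact Subtype.ext (h3 _ (φ x).2)
    · rw [← h4]
      haveI : Group.IsNilpotent S' := (Group.isNilpotent_congr φ).1 inferInstance
      exact le_antisymm (Group.nilpotencyClass_le_of_surjective φ.symm.toMonoidHom φ.symm.surjective)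
        (Group.nilpotencyClass_le_of_surjective φ.toMonoidHom φ.surjective)

end Cfsg.Agent.S5177
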