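import Cfsg.Statements.S5178
import Cfsg.Agent.Lib.H9.CenterSq

set_option autoImplicit false
universe u
open Cfsg

namespace Cfsg.Agent.S5178

/-- Let p be an odd prime, S a finite p-group containing an extraspecial subgroup Q of index p, and F a saturated fusion system over S whose largest subgroup normal in F is trivial. Then the centre of S equals the centre of Q. -/
theorem result {Ω : Type u} [Group Ω] {S : Subgroup Ω} [Finite S] (p : ℕ) [Fact p.Prime] (hp : Odd p) (hS : IsPGroup p S)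
    (Q : Subgroup Ω) (hQS : Q ≤ S) (hQ : Cfsg.IsExtraspecial p ↥Q) (hQi : (Q.subgroupOf S).index = p)
    (F : Cfsg.FusionSystem S) (hF : F.IsSaturated p) (hO : F.core = ⊥) :
    S ⊓ Subgroup.centralizer (S : Set Ω) = Q ⊓ Subgroup.centralizer (Q : Set Ω) := by
  have : Finite Q := H9.finite_of_le hQS
  have hp' : p.Prime := Fact.out
  have hΦ := H9.IsExtraspecial.Phi_eq hQ
  have hc := H9.IsExtraspecial.card_Phi hQ
  have h1 : H9.Phi p Q ≤ S ⊓ Subgroup.centralizer (S : Set Ω) := fun z hz =>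
    ⟨hQS (H9.Phi_le Q hz), fun s hs => H9.commute_of_card_prime hc hS
      ((H9.le_normalizer_of_relIndex_eq hS hQS hQi).trans (H9.normalizer_le_normalizer_Phi Q)) hs hz⟩
  refine le_antisymm (fun z hz => ?_) (hΦ ▸ h1)
  by_contra hzQ
  have hzQ' : z ∉ Q := fun h => hzQ ⟨h, fun q hq => hz.2 q (hQS hq)⟩
  have h2 : ∀ s ∈ S, ∃ q ∈ Q, ∃ i : ℤ, s = q * z ^ i := fun s hs =>
    (H9.mem_sup_zpowers (H9.le_normalizer_of_relIndex_eq hS hQS hQi hz.1)).1
      ((H9.sup_zpowers_eq_of_relIndex_prime hp' hQi hQS hz.1 hzQ').ge hs)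
  have h3 : ∀ s ∈ S, ∀ i : ℤ, Commute s (z ^ i) := fun s hs i => Commute.zpow_right (hz.2 s hs) i
  have h4 : H9.Phi p S = H9.Phi p Q := by
    refine le_antisymm (H9.Phi_le_iff.2 ⟨fun s hs => ?_, fun a ha b hb => ?_⟩) (H9.Phi_mono hQS)
    · obtain ⟨q, hq, i, rfl⟩ := h2 s hs
      rw [(h3 q (hQS hq) i).mul_pow, ← zpow_natCast (z ^ i), ← zpow_mul, mul_comm i, zpow_mul,
        zpow_natCast]
      refine mul_mem (H9.pow_mem_Phi hq) (zpow_mem ?_ i)
      rw [hΦ]
      exact ⟨H9.pow_mem_of_relIndex_prime hS hQS hQi hz.1,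
        fun q hq => (Commute.pow_right (hz.2 q (hQS hq)) p).eq⟩
    · obtain ⟨q, hq, i, rfl⟩ := h2 a ha
      obtain ⟨r, hr, j, rfl⟩ := h2 b hb
      have e1 := commutatorElement_eq_one_iff_commute.2 (h3 _ hb i).symm
      have e2 := commutatorElement_eq_one_iff_commute.2 (h3 _ (hQS hq) j)
      rw [H9.commutator_mul_left_of_commute (by rw [e1]; exact Commute.one_right _), e1, one_mul,
        H9.commutator_mul_right_of_commute (by rw [e2]; exact Commute.one_right _), e2, mul_one]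
      exact H9.commutator_mem_Phi hq hr
  obtain ⟨E, hE⟩ := H9.exists_essential_of_core_eq_bot hS hF hO
    fun h => hzQ' (by rw [Subgroup.mem_bot.1 (h.le hz.1)]; exact Q.one_mem)
  obtain ⟨M, h⟩ := H9.exists_essCtx hS hF hE
  obtain ⟨-, -, h5⟩ := h.genExtra_index le_rfl (h.aInv F.stronglyClosed_top)
    (h.le.trans Subgroup.le_normalizer) (h4 ▸ hc) h.lt.not_ge
  have h6 := H9.card_center_of_index_sq_odd hS hF hp hO (by rwa [Subgroup.inf_relIndex_left])
  have : Finite (S ⊓ Subgroup.centralizer (S : Set Ω) : Subgroup Ω) := H9.finite_of_le inf_le_left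
  exact hzQ' (H9.Phi_le Q ((Subgroup.eq_of_le_of_card_ge h1 (h6.trans hc.symm).le).ge hz))

end Cfsg.Agent.S5178
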