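import Cfsg.Statements.S5179
import Cfsg.Agent.Lib.H9.Transv

set_option autoImplicit false
universe u
open Cfsg

namespace Cfsg.Agent.S5179

/-- Let p be an odd prime, S a finite p-group of order at least p⁶ containing an extraspecial subgroup Q of index p, and F a saturated fusion system over S whose largest subgroup normal in F is trivial. Then no proper subgroup of Q is essential in F: an essential subgroup of F contained in Q equals Q. -/
theorem result {Ω : Type u} [Group Ω] {S : Subgroup Ω} [Finite S] (p : ℕ) [Fact p.Prime] (hp : Odd p) (hS : IsPGroup p S)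
    (Q : Subgroup Ω) (hQS : Q ≤ S) (hQ : Cfsg.IsExtraspecial p ↥Q) (hQi : (Q.subgroupOf S).index = p)
    (h6 : p ^ 6 ≤ Nat.card S)
    (F : Cfsg.FusionSystem S) (hF : F.IsSaturated p) (hO : F.core = ⊥)
    (E : Subgroup Ω) (hEQ : E ≤ Q) (hE : F.IsEssential p E) : E = Q := by
  have : Finite Q := H9.finite_of_le hQS
  have hp' : p.Prime := Fact.out
  obtain ⟨M, h⟩ := H9.exists_essCtx hS hF hE
  by_contra hne
  have hΦ := H9.IsExtraspecial.Phi_eq hQ
  have hZS : H9.Phi p Q ≤ E := fun z hz => h.mem_of_comm (hQS (H9.Phi_le Q hz)) fun x hx =>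
    (hΦ ▸ hz).2 x (hEQ hx)
  obtain ⟨-, -, h3⟩ := h.genExtra_index hQS (by
    rw [Subgroup.subgroupOf_eq_top.2 hEQ]; exact H9.AInv.top _) (hEQ.trans Subgroup.le_normalizer)
    (H9.IsExtraspecial.card_Phi hQ) fun h' => hne (le_antisymm hEQ h')
  have h1 := (Subgroup.center Q).card_mul_index
  rw [H9.index_center_eq, h3, hQ.2] at h1
  have h2 := (Q.subgroupOf S).card_mul_index
  rw [hQi, Nat.card_congr (Subgroup.subgroupOfEquivOfLe hQS).toEquiv, ← h1] at h2
  rw [← h2, show p * p ^ 2 * p = p ^ 4 by ring, Nat.pow_le_pow_iff_right hp'.one_lt] at h6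
  omega

end Cfsg.Agent.S5179
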