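import Cfsg.Statements.S5181
import Cfsg.Agent.Lib.H9.G3M

set_option autoImplicit false
universe u
open Cfsg

namespace Cfsg.Agent.S5181

/-- Let p be an odd prime, S a finite p-group of sectional p-rank exactly 3, and F a saturated fusion system over S whose largest subgroup normal in F is trivial. Then either S is isomorphic to a Sylow p-subgroup of Sp(4,p), or some essential subgroup of F is not normal in S. -/
theorem result {Ω : Type u} [Group Ω] {S : Subgroup Ω} [Finite S] (p : ℕ) [Fact p.Prime] (hp : Odd p) (hS : IsPGroup p S) (hsr : Cfsg.SectionalPRankLE p 3 ↥S ∧ ¬ Cfsg.SectionalPRankLE p 2 ↥S)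
    (F : Cfsg.FusionSystem S) (hF : F.IsSaturated p) (hO : F.core = ⊥) :
    (∃ P : Sylow p ↥(Matrix.symplecticGroup (Fin 2) (ZMod p)),
        Nonempty (↥S ≃* ↥(P : Subgroup ↥(Matrix.symplecticGroup (Fin 2) (ZMod p))))) ∨
      ∃ E : Subgroup Ω, F.IsEssential p E ∧ ¬ S ≤ Subgroup.normalizer (E : Set Ω) := by
  have hr' : ¬ H9.SR p 2 S := fun h => hsr.2 (H9.sectional_of_sr h)
  by_contra hcon
  push Not at hcon
  obtain ⟨E₁, h₁⟩ := H9.exists_essential_of_core_eq_bot hS hF hO (H9.ne_bot_of_not_sr hr')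
  obtain ⟨E₂, h₂, hne⟩ := H9.exists_essential_ne hS hF hO h₁
  obtain ⟨P, ⟨e⟩⟩ := (H9.two_normal hp hS (H9.sr_of_sectional hsr.1) hr' hF hO hne h₂ h₁
    (hcon.2 _ h₂) (hcon.2 _ h₁)).1
  exact (hcon.1 P).false e

end Cfsg.Agent.S5181
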