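import Cfsg.Statements.S5182
import Cfsg.Agent.Lib.H9.G3Q

set_option autoImplicit false
universe u
open Cfsg

namespace Cfsg.Agent.S5182

/-- Let p ≥ 5 be a prime, S a finite p-group of sectional p-rank exactly 3, and F a saturated fusion system over S whose largest subgroup normal in F is trivial. Then F has an essential subgroup that is either elementary abelian of order p² or extraspecial of order p³ and exponent p. -/
theorem result {Ω : Type u} [Group Ω] {S : Subgroup Ω} [Finite S] (p : ℕ) [Fact p.Prime] (hp : 5 ≤ p) (hS : IsPGroup p S) (hsr : Cfsg.SectionalPRankLE p 3 ↥S ∧ ¬ Cfsg.SectionalPRankLE p 2 ↥S)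
    (F : Cfsg.FusionSystem S) (hF : F.IsSaturated p) (hO : F.core = ⊥) :
    ∃ E : Subgroup Ω, (F.IsEssential p E ∧ ((Cfsg.IsElementaryAbelian p E ∧ Nat.card E = p ^ 2) ∨
        (Cfsg.IsExtraspecial p ↥E ∧ Nat.card E = p ^ 3 ∧ ∀ x ∈ E, x ^ p = 1))) := by
  have hr' : ¬ H9.SR p 2 S := fun h => hsr.2 (H9.sectional_of_sr h)
  have hr := H9.sr_of_sectional hsr.1
  obtain ⟨E₁, h₁⟩ := H9.exists_essential_of_core_eq_bot hS hF hO (H9.ne_bot_of_not_sr hr')
  obtain ⟨E₂, h₂, hne⟩ := H9.exists_essential_ne hS hF hO h₁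
  by_cases n₁ : S ≤ Subgroup.normalizer (E₁ : Set Ω)
  · by_cases n₂ : S ≤ Subgroup.normalizer (E₂ : Set Ω)
    · rcases (H9.two_normal ((Fact.out : p.Prime).odd_of_ne_two (by omega)) hS hr hr' hF hO hne h₂ h₁
        n₂ n₁).2 with h | h
      · exact ⟨E₂, h₂, Or.inr ⟨h.1, h.2.1, h.2.2.1⟩⟩
      · exact ⟨E₁, h₁, Or.inr ⟨h.1, h.2.1, h.2.2.1⟩⟩
    · exact ⟨E₂, h₂, Or.inl (H9.pearl_of_nonnormal hS hF hp hr h₂ n₂)⟩
  · exact ⟨E₁, h₁, Or.inl (H9.pearl_of_nonnormal hS hF hp hr h₁ n₁)⟩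

end Cfsg.Agent.S5182
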