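import Cfsg.Statements.S5187
import Cfsg.Agent.Lib.H9.SmallEss

set_option autoImplicit false
universe u
open Cfsg

namespace Cfsg.Agent.S5187

/-- Let F be a saturated fusion system over a finite p-group S and H an abelian essential subgroup that can be generated by two elements (its Frattini quotient has order at most p²). Then H is elementary abelian of order p², or p ≤ 3 and H is homocyclic of rank two, that is isomorphic to C_{pᵏ} × C_{pᵏ} for some k. -/
theorem result {Ω : Type u} [Group Ω] {S : Subgroup Ω} [Finite S] (p : ℕ) [Fact p.Prime] (hS : IsPGroup p S)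
    (F : Cfsg.FusionSystem S) (hF : F.IsSaturated p) (H : Subgroup Ω) (hH : F.IsEssential p H) (hab : IsMulCommutative ↥H) (hrk : (frattini ↥H).index ≤ p ^ 2) :
    (Cfsg.IsElementaryAbelian p H ∧ Nat.card H = p ^ 2) ∨
      (p ≤ 3 ∧ ∃ k : ℕ, Nonempty (↥H ≃* Multiplicative (ZMod (p ^ k) × ZMod (p ^ k)))) := by
  obtain ⟨t, ht⟩ := H9.exists_radT hS hH
  have : Finite H := H9.finite_of_le hH.1.1
  have hP : IsPGroup p H := hS.to_le hH.1.1
  rw [H9.frattini_eq_Phi hP] at hrk
  have hi : (H9.Phi p (⊤ : Subgroup H)).index = p ^ 2 :=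
    le_antisymm hrk (Nat.le_of_dvd (Nat.pos_of_ne_zero Subgroup.index_ne_zero_of_finite)
      (ht.sq_dvd hP))
  obtain ⟨h1 | h1, k, ⟨e⟩⟩ := ht.abelian_rank_two hP hab hi
  · refine Or.inl ⟨H9.Phi_subgroup_top_eq_bot_iff.1 h1, ?_⟩
    rwa [h1, Subgroup.index_bot] at hi
  · exact Or.inr ⟨h1, k + 1, ⟨e.trans (MulEquiv.prodMultiplicative _ _).symm⟩⟩

end Cfsg.Agent.S5187
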