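import Cfsg.Statements.S5192
import Cfsg.Agent.Lib.Lead.Cocycle
import Cfsg.Agent.Lib.H7.Saturation
-- import your own Cfsg.Agent.* helpers here

set_option autoImplicit false
open Cfsg

namespace Cfsg.Agent.S5192

open Cfsg.FusionSystem Cfsg.Agent.H7 Cfsg.Agent.Lead

theorem normalizer_zpowers_le {Ω : Type*} [Group Ω] {j : Ω} (hj : orderOf j = 2) :
    Subgroup.normalizer (Subgroup.zpowers j : Set Ω) ≤
      Subgroup.centralizer (Subgroup.zpowers j : Set Ω) := fun a ha => by
  classical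
  have h2 : j ^ 2 = 1 := hj ▸ pow_orderOf_eq_one j
  have key : ∀ x ∈ Subgroup.zpowers j, x = 1 ∨ x = j := by
    intro x hx
    obtain ⟨n, hn, rfl⟩ : ∃ n < orderOf j, j ^ n = x := by
      have := (isOfFinOrder_iff_pow_eq_one.2 ⟨2, two_pos, h2⟩).mem_zpowers_iff_mem_range_orderOf.1 hx
      simpa using this
    rw [hj] at hn
    interval_cases n <;> simp
  refine mem_centralizer_of_conj_eq fun x hx => ?_
  rcases key x hx with rfl | rfl
  · simp
  · rcases key _ (conj_mem_of_mem_normalizer ha hx) with h | h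
    · have : x = 1 := by simpa using h
      simp [this] at hj
    · exact h

theorem card_parity {H Y : Type*} [Group H] [MulAction H Y] [Finite Y] (hH : IsPGroup 2 H)
    (Z : Set Y) (hZ : ∀ (h : H), ∀ y ∈ Z, h • y ∈ Z) (h0 : MulAction.fixedPoints H Y ⊆ Z) :
    Nat.card Z ≡ Nat.card Y [MOD 2] := by
  let W : SubMulAction H Y := ⟨Z, fun h {y} hy => hZ h y hy⟩
  have h1 := hH.card_modEq_card_fixedPoints W
  have h2 := hH.card_modEq_card_fixedPoints Y
  have h3 : Nat.card (MulAction.fixedPoints H W) = Nat.card (MulAction.fixedPoints H Y) :=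
    Nat.card_congr ⟨fun y => ⟨y.1.1, fun h => congrArg Subtype.val (y.2 h)⟩,
      fun y => ⟨⟨y.1, h0 y.2⟩, fun h => Subtype.ext (y.2 h)⟩, fun _ => rfl, fun _ => rfl⟩
  exact h1.trans (h3 ▸ h2.symm)

/-- A Thompson-type transfer for saturated fusion systems. Let F be a saturated fusion system on a finite 2-group S, T a subgroup of S of index 2, and i an involution of S such that every fully normalized F-conjugate of i lies in S but outside T. Then i does not lie in the hyperfocal subgroup of F (the Sylow group of the 2-residual subsystem). -/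
theorem result {Ω : Type*} [Group Ω] [Finite Ω] {S : Subgroup Ω}
    (hS : IsPGroup 2 ↥S) (F : Cfsg.FusionSystem S) (hF : F.IsSaturated 2)
    (T : Subgroup Ω) (hTS : T ≤ S) (hT : T.relIndex S = 2)
    (i : Ω) (hi : i ∈ S) (hi2 : orderOf i = 2)
    (h : ∀ j : Ω, F.IsConjElt i j → F.IsFullyNormalized (Subgroup.zpowers j) → j ∉ T) :
    i ∉ F.hyperfocalSubgroup 2 := by
  classical
  intro hh
  have hT' : (T.subgroupOf S).index = 2 := hT
  let κ : S →* ℤˣ := MonoidHom.mk' (fun s => if (s : Ω) ∈ T then 1 else -1) fun a b => by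
    have := Subgroup.mul_mem_iff_of_index_two hT' (a := a) (b := b)
    simp only [Subgroup.mem_subgroupOf] at this
    by_cases ha : (a : Ω) ∈ T <;> by_cases hb : (b : Ω) ∈ T <;> simp_all
  have hκ : ∀ s : S, κ s = if (s : Ω) ∈ T then 1 else -1 := fun _ => rfl
  obtain ⟨D⟩ := exists_trData hS hF
  obtain ⟨Q, hQ, hfn⟩ := F.exists_isFullyNormalized (Subgroup.zpowers_le.2 hi)
  obtain ⟨φ, hφ⟩ := hQ.exists_isIso
  have hiz := Subgroup.mem_zpowers i
  have hj2 : orderOf (φ i) = 2 := by rw [hφ.mor.orderOf_eq hiz, hi2]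
  have himg : ∀ {P : Subgroup Ω} {f : Ω → Ω} {x : Ω}, F.IsMor P f → x ∈ P →
      F.IsIso (Subgroup.zpowers x) (Subgroup.zpowers (f x)) f := fun {P f x} hf hx =>
    ⟨hf.mono (Subgroup.zpowers_le.2 hx), fun _ ⟨n, hn⟩ => ⟨n, by rw [← hn, hf.map_zpow hx]⟩,
      fun _ ⟨n, hn⟩ => ⟨x ^ n, ⟨n, rfl⟩, by rw [← hn, hf.map_zpow hx]⟩⟩
  obtain rfl := hφ.unique (himg hφ.mor hiz)
  have hc := hφ.mor.isConjElt hiz
  have h1 : D.tr κ ⟨φ i, hc.mem_right⟩ = 1 := by
    rw [D.tr_stable κ hφ.mor (u := ⟨i, hi⟩) hiz rfl]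
    exact D.tr_focal κ (hyperfocalSubgroup_le_focalSubgroup F 2 hh)
  generalize φ i = j₀ at *
  obtain ⟨j, rfl⟩ : ∃ j : S, (j : Ω) = j₀ := ⟨⟨j₀, hc.mem_right⟩, rfl⟩
  have hjj : j * j = 1 := Subtype.ext (by
    have := pow_orderOf_eq_one (j : Ω)
    rwa [hj2, pow_two] at this)
  have hc1 : ∀ y, D.c 1 y = 1 := fun y => by
    have := D.coc 1 1 y
    rw [one_mul, one_smul] at this
    exact left_eq_mul.1 this
  let Z : Set D.Y := {y | j • y = y ∧ (D.c j y : Ω) ∉ T}
  have h2 : ∏ y, κ (D.c j y) = (-1) ^ Nat.card Z := by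
    rw [← Finset.prod_filter_mul_prod_filter_not Finset.univ (fun y => j • y = y),
      Finset.prod_involution (s := Finset.univ.filter fun y => ¬ j • y = y) (fun y _ => j • y)
        (fun y _ => by rw [mul_comm, ← D.coc', hjj, hc1, map_one]) (fun y hy _ => by simpa using hy)
        (fun y hy => by
          simp only [Finset.mem_filter, Finset.mem_univ, true_and] at hy ⊢
          rw [← mul_smul, hjj, one_smul]
          exact fun e => hy e.symm) (fun y _ => by rw [← mul_smul, hjj, one_smul]), mul_one]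
    simp only [hκ]
    rw [Finset.prod_ite, Finset.prod_const_one, one_mul, Finset.prod_const, Finset.filter_filter,
      Nat.card_eq_fintype_card, Fintype.card_subtype]
    rfl
  let C : Subgroup S := Subgroup.centralizer {j}
  have h3 : Nat.card Z ≡ Nat.card D.Y [MOD 2] := card_parity (H := C) (hS.to_subgroup C) Z
    (fun g y hy => by
      have e : j * g = g * j := g.2 j rfl
      have e1 := D.coc j g y
      have e2 := D.coc g j y
      rw [hy.1, ← e, e1] at e2
      refine ⟨by rw [Subgroup.smul_def, ← mul_smul, e, mul_smul, hy.1], fun hm => hy.2 ?_⟩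
      have e3 := congrArg κ e2
      rw [map_mul, map_mul, mul_comm, mul_right_inj, hκ, hκ, if_pos (by exact hm)] at e3
      by_contra hn
      simp [hn] at e3)
    fun y hy => by
      obtain ⟨P, f, hf, e⟩ := D.stab y
      have hCP : centralizerIn S (Subgroup.zpowers (j : Ω)) ≤ P := fun x hx =>
        (e ⟨x, hx.1⟩).1.1 (hy ⟨⟨x, hx.1⟩, fun z hz => by
          rw [Set.mem_singleton_iff.1 hz]
          exact Subtype.ext (hx.2 _ (Subgroup.mem_zpowers _))⟩)
      have hjy : j • y = y := hy ⟨j, fun z hz => by rw [Set.mem_singleton_iff.1 hz]⟩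
      have hjP := (e j).1.1 hjy
      refine ⟨hjy, ?_⟩
      rw [(e j).2 hjP]
      refine h _ (hc.trans (hf.isConjElt hjP)) (hfn.of_isIso (himg hf hjP) (hf.mono ?_))
      exact fun x hx => hCP ⟨hx.1, normalizer_zpowers_le hj2 hx.2⟩
  rw [D.tr_apply, h2] at h1
  have h4 := D.not_dvd_card hS
  rw [← Nat.card_eq_fintype_card, ← (h3.dvd_iff dvd_rfl), ← even_iff_two_dvd,
    Nat.not_even_iff_odd] at h4
  rw [h4.neg_one_pow] at h1
  exact absurd h1 (by decide)

end Cfsg.Agent.S5192
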