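import Cfsg.Statements.S5203
import Cfsg.Agent.Lib.H8.Iso
-- import your own Cfsg.Agent.* helpers here

set_option autoImplicit false
open Cfsg

namespace Cfsg.Agent.S5203

open Cfsg Cfsg.FusionSystem Cfsg.Agent.H8 Cfsg.Agent.H7

variable {Ω : Type*} [Group Ω] {S T U V : Subgroup Ω} {p : ℕ} {F : FusionSystem S}
  {E : FusionSystem T}

theorem hyp_eq_of_index [Fact p.Prime] [Finite S] (hS : IsPGroup p S)
    (h : E.HasPPowerIndexIn F p) : E.hyperfocalSubgroup p = F.hyperfocalSubgroup p := by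
  obtain ⟨h1, h2, h3⟩ := hasPPowerIndexIn_iff.1 h
  refine le_antisymm (hyp_mono h1) (hyperfocalSubgroup_le_iff'.2 fun P hP α hα ho => ?_)
  have := finite_of_le hP
  have h4 : ∀ x ∈ P, x⁻¹ * equivFun α x ∈ T := fun x hx => h2 (mem_hyperfocalSubgroup hP hα ho hx)
  obtain ⟨β, e⟩ := exists_res (inf_le_left : P ⊓ T ≤ P) (α := α)
    (mem_stabAut_of_finite fun x hx hx' => ⟨equivFun_mem α hx, by
      simpa using T.mul_mem hx'.2 (h4 x hx)⟩)
  have h5 : β ∈ F.autGroup (P ⊓ T) :=
    (mem_autGroup_iff_isMor (inf_le_left.trans hP) (fun x => (equivFun_coe _ x).symm)).2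
      (((isMor_of_mem_autGroup hP hα).mono inf_le_left).congr e)
  have h6 := coprime_of_res inf_le_left e ho
  exact mem_modAut_of_two_step (hS.to_le hP) ho h4 (fun x hx hxT => by
    rw [e x ⟨hx, hxT⟩]
    exact mem_hyperfocalSubgroup inf_le_right (h3 _ inf_le_right β h5 h6) h6 ⟨hx, hxT⟩)
    fun x _ hxT => le_normalizer_hyp E p hxT

theorem stable_step [Fact p.Prime] [Finite S] (hS : IsPGroup p S)
    (h1 : F.hyperfocalSubgroup p = S) (h2 : F.IsPPrimeResidual p F)
    {D D' : FusionSystem (F.hyperfocalSubgroup p)} (h3 : F.IsPResidual p D)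
    (h4 : D.IsPPrimeResidual p D') : (F.IsSubsystemOf D' ∧ D'.IsSubsystemOf F) ∧
      D'.hyperfocalSubgroup p = F.hyperfocalSubgroup p ∧ D'.IsPPrimeResidual p D' := by
  have h5 := le_of_hasPPowerIndexIn hS h2.1 (fun _ => le_rfl) h1.ge h3.2
  have h6 := same_induction (C := fun {S} F => F.hyperfocalSubgroup p = S ∧ F.IsPPrimeResidual p F)
    h5 h3.2.1 ⟨h1, h2⟩
  obtain rfl := pPrimeResidual_unique h4 h6.2
  exact ⟨⟨h5, h3.2.1⟩, h6⟩

theorem stable_limit (h : E.IsResidualLimitOf F p) : ∀ [Fact p.Prime] [Finite S], IsPGroup p S →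
    F.hyperfocalSubgroup p = S → F.IsPPrimeResidual p F →
      E.IsSubsystemOf F ∧ F.IsSubsystemOf E := by
  induction h with
  | stable F p _ _ => exact fun _ _ _ => ⟨fun _ => le_rfl, fun _ => le_rfl⟩
  | step F p D D' h3 h4 _ ih =>
    intro _ _ hS h1 h2
    obtain ⟨h5, h6, h7⟩ := stable_step hS h1 h2 h3 h4
    have := finite_of_le h1.le
    obtain ⟨h8, h9⟩ := ih (hS.to_le h1.le) h6 h7
    exact ⟨fun P => (h8 P).trans (h5.2 P), fun P => (h5.1 P).trans (h9 P)⟩

theorem limit_unique (h : E.IsResidualLimitOf F p) : ∀ [Fact p.Prime] [Finite S], IsPGroup p S →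
    ∀ {U : Subgroup Ω} {L : FusionSystem U}, L.IsResidualLimitOf F p →
      E.IsSubsystemOf L ∧ L.IsSubsystemOf E := by
  induction h with
  | stable F p h1 h2 => exact fun hS _ _ h => (stable_limit h hS h1 h2).symm
  | step F p D D' h3 h4 h5 ih =>
    intro _ _ hS U L h
    cases h with
    | stable _ _ h1 h2 => exact stable_limit (.step _ p D D' h3 h4 h5) hS h1 h2
    | step _ _ D₁ D₁' h6 h7 h8 =>
      have hle := hyperfocalSubgroup_le F p
      have := finite_of_le hle
      obtain rfl := pPowerIndex_unique hS h3.1 h6.1 h3.2 h6.2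
      obtain rfl := pPrimeResidual_unique h4 h7
      exact ih (hS.to_le hle) h8

theorem limit_step [Fact p.Prime] [Finite S] (hS : IsPGroup p S) (h : E.IsResidualLimitOf F p)
    {D D' : FusionSystem U} (hU : U = F.hyperfocalSubgroup p) (h3 : D.IsSaturated p)
    (h3' : D.HasPPowerIndexIn F p) (h4 : D.IsPPrimeResidual p D') :
    ∃ (V : Subgroup Ω) (L : FusionSystem V), L.IsResidualLimitOf D' p ∧
      E.IsSubsystemOf L ∧ L.IsSubsystemOf E := by
  subst hU
  cases h with
  | stable _ _ h1 h2 =>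
    obtain ⟨h5, h6, h7⟩ := stable_step hS h1 h2 ⟨h3, h3'⟩ h4
    exact ⟨_, D', .stable _ _ h6 h7, h5⟩
  | step _ _ D₁ D₁' h6 h7 h8 =>
    obtain rfl := pPowerIndex_unique hS h3 h6.1 h3' h6.2
    obtain rfl := pPrimeResidual_unique h4 h7
    exact ⟨_, E, h8, fun _ => le_rfl, fun _ => le_rfl⟩


/-- Let F be a saturated fusion system over a finite p-group S and E a normal subsystem of F over T that has p-power index in F. Then every residual limit of E has the same maps as every residual limit of F (the residual limit is reached by alternately passing to the p-residual and the p'-residual subsystem until nothing changes). -/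
theorem result {Ω : Type*} [Group Ω] {S : Subgroup Ω} [Finite S] (p : ℕ) [Fact p.Prime] (hS : IsPGroup p S) (F : Cfsg.FusionSystem S) (hF : F.IsSaturated p) {T : Subgroup Ω} (E : Cfsg.FusionSystem T) (hE : E.IsNormalIn F p) (hidx : E.HasPPowerIndexIn F p) {U V : Subgroup Ω} (Finf : Cfsg.FusionSystem U) (hFinf : Finf.IsResidualLimitOf F p) (Einf : Cfsg.FusionSystem V) (hEinf : Einf.IsResidualLimitOf E p) : ∀ P : Subgroup Ω, Finf.Hom P = Einf.Hom P := by
  have hT := hidx.1.le
  have := finite_of_le hT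
  have e := hyp_eq_of_index hS hidx
  have hle := hyperfocalSubgroup_le E p
  have := finite_of_le hle
  have hTp := hS.to_le hT
  obtain ⟨D, h1, h2⟩ := exists_pPowerIndex hE.1.1 hTp hle le_rfl
  have h3 := ppMul_isPPrimeResidual h1 (hTp.to_le hle)
  obtain ⟨_, L, h4, h5⟩ := limit_step hS hFinf e h1 (hasPPowerIndexIn_trans h2 hidx e.ge) h3
  obtain ⟨_, L', h6, h7⟩ := limit_step hTp hEinf rfl h1 h2 h3
  obtain ⟨h8, h9⟩ := limit_unique h4 (hTp.to_le hle) h6
  exact fun P => Set.Subset.antisymm ((h5.1 P).trans ((h8 P).trans (h7.2 P)))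
    ((h7.1 P).trans ((h9 P).trans (h5.2 P)))

end Cfsg.Agent.S5203
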