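import Cfsg.Statements.S5213
import Cfsg.Agent.Lib.H6.RankTwo

set_option autoImplicit false
open Cfsg

namespace Cfsg.Agent.S5213

/-- Let S be a finite 2-group of 2-rank 2 (it has an elementary abelian subgroup of order 4 and none of order 8) and F a saturated fusion system over S with trivial centre. Then S is dihedral, semidihedral, wreathed, homocyclic abelian (a direct product of cyclic groups of one common order), or isomorphic to a Sylow 2-subgroup of the projective special unitary group PSU₃(4) (realised over the field with 16 elements). -/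
theorem result {Ω : Type*} [Group Ω] {S : Subgroup Ω} [Finite S] (hS : IsPGroup 2 S) (F : Cfsg.FusionSystem S) (hF : F.IsSaturated 2) (hr : Cfsg.PRankAtLeast 2 2 ↥S ∧ ¬ Cfsg.PRankAtLeast 2 3 ↥S) (hZ : F.center = ⊥) {K : Type*} [Field K] [Fintype K] (hK : Fintype.card K = 16) : (∃ m : ℕ, Nonempty (↥S ≃* DihedralGroup m)) ∨ Cfsg.IsQuasiDihedral ↥S ∨ Cfsg.IsWreathed ↥S ∨ (∃ n k : ℕ, Nonempty (↥S ≃* Multiplicative (Fin k → ZMod (2 ^ n)))) ∨ ∃ T : Sylow 2 (Cfsg.PSU 3 K 4), Nonempty (↥S ≃* ↥(T : Subgroup (Cfsg.PSU 3 K 4))) := by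
  open H6 in
  have hr2 : Cfsg.PRankLE 2 2 S := fun A h1 h2 => by
    by_contra h
    refine hr.2 ⟨A, h1, h2, ?_⟩
    obtain ⟨n, hn⟩ := IsPGroup.iff_card.1 (hS.to_subgroup A)
    rw [hn] at h ⊢
    exact Nat.pow_le_pow_right (by norm_num)
      ((Nat.pow_lt_pow_iff_right (by norm_num)).1 (not_le.1 h))
  have hne : S ≠ ⊥ := by
    rintro rfl
    obtain ⟨A, -, -, h⟩ := hr.1
    have := Nat.card_le_card_of_injective _ A.subtype_injective
    rw [Subgroup.card_bot] at this
    omega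
  have := rank2Shape_of_fused hS hF hr2 hne fun z hz ho _ => by
    by_contra h
    push Not at h
    have := (hF.mem_center_iff hS).2 ⟨hz, h⟩
    rw [hZ] at this
    exact (orderOf_eq_two_iff.1 ho).2 this
  rcases this with ⟨m, x, t, hm, h⟩ | h | h | ⟨n, y, y', -, h⟩ | ⟨U, τ, h⟩
  · obtain ⟨e⟩ := h.nonempty_equiv (by omega)
    exact Or.inl ⟨m, ⟨Subgroup.topEquiv.symm.trans e⟩⟩
  · exact Or.inr (Or.inl h)
  · exact Or.inr (Or.inr (Or.inl h))
  · obtain ⟨e⟩ := h.nonempty_equiv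
    refine Or.inr (Or.inr (Or.inr (Or.inl ⟨n + 1, 2, ⟨(Subgroup.topEquiv.symm.trans e).trans
      (AddEquiv.toMultiplicative ?_)⟩⟩)))
    exact (LinearEquiv.finTwoArrow ℤ (ZMod (2 ^ (n + 1)))).symm.toAddEquiv
  · exact Or.inr (Or.inr (Or.inr (Or.inr ⟨default, h.nonempty_equiv_sylow hK _⟩)))

end Cfsg.Agent.S5213
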