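import Cfsg.Statements.S5264
import Cfsg.Agent.Lib.H9.OrderFive

set_option autoImplicit false
open Cfsg

namespace Cfsg.Agent.S5264

/-- Let p be an odd prime other than 7, S a finite p-group of order p^5, and F a saturated fusion system over S with no nontrivial normal subgroup and with hyperfocal subgroup equal to S (so F is its own p-residual subsystem). Then S has an abelian subgroup of index p. -/
theorem result {Ω : Type*} [Group Ω] {S : Subgroup Ω} [Finite S] (p : ℕ) [Fact p.Prime] (hS : IsPGroup p ↥S) (F : Cfsg.FusionSystem S) (hF : F.IsSaturated p) (hp : p ≠ 2) (hp7 : p ≠ 7) (hcard : Nat.card S = p ^ 5) (hcore : F.core = ⊥) (hhyp : F.hyperfocalSubgroup p = S) : ∃ A : Subgroup Ω, A ≤ S ∧ IsMulCommutative ↥A ∧ (A.subgroupOf S).index = p := by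
  have hp' : p.Prime := Fact.out
  have h := H9.exists_abelian_of_card_five hS hF (hp'.odd_of_ne_two hp) hp7 hcard hcore
    (hhyp.ge.trans (F.hyperfocalSubgroup_le_focalSubgroup p))
  simp only [H9.AbSmall, not_forall, not_le] at h
  obtain ⟨A, hA, hc, hlt⟩ := h
  have : Finite A := H9.finite_of_le hA
  rcases hA.lt_or_eq with h1 | rfl
  · obtain ⟨n, hn⟩ := H9.exists_card_eq_pow (hS.to_le hA)
    have h2 := H9.card_lt_of_lt' h1
    rw [hn, Nat.pow_lt_pow_iff_right hp'.one_lt] at hlt
    rw [hn, hcard, Nat.pow_lt_pow_iff_right hp'.one_lt] at h2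
    obtain rfl : n = 4 := by omega
    exact ⟨A, hA, H7.isMulCommutative_iff_forall.2 hc,
      (H9.relIndex_eq_of_card hA (a := 4) (b := 1) hp'.pos hcard hn).trans (pow_one p)⟩
  · obtain ⟨B, -, hB, hi⟩ := H9.exists_le_relIndex_eq_of_lt hS (K := ⊥)
      (bot_lt_iff_ne_bot.2 fun e => by
        rw [e, Subgroup.card_bot] at hlt
        exact hlt.not_ge (Nat.one_le_pow _ _ hp'.pos))
    exact ⟨B, hB, H7.isMulCommutative_iff_forall.2 fun a ha b hb =>
      hc a (hB ha) b (hB hb), hi⟩

end Cfsg.Agent.S5264
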