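import Cfsg.Statements.S5265
import Cfsg.Agent.Lib.H9.CenterSq

set_option autoImplicit false
open Cfsg

namespace Cfsg.Agent.S5265

/-- Let p be a prime, S a nontrivial finite p-group whose centre has index at most p², and F a saturated fusion system over S with no nontrivial normal subgroup and with hyperfocal subgroup equal to S. Then S is extraspecial of order p³; for odd p it has exponent p, and for p = 2 it is dihedral of order 8. -/
theorem result {Ω : Type*} [Group Ω] {S : Subgroup Ω} [Finite S] (p : ℕ) [Fact p.Prime] (hS : IsPGroup p ↥S) (F : Cfsg.FusionSystem S) (hF : F.IsSaturated p) (hS1 : S ≠ ⊥) (hcore : F.core = ⊥) (hhyp : F.hyperfocalSubgroup p = S) (hZ : (Subgroup.center ↥S).index ≤ p ^ 2) : Cfsg.IsExtraspecial p ↥S ∧ Nat.card S = p ^ 3 ∧ (p ≠ 2 → Monoid.exponent ↥S = p) ∧ (p = 2 → Nonempty (↥S ≃* DihedralGroup 4)) := by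
  have hp : p.Prime := Fact.out
  have hna : ¬ IsMulCommutative S := fun h => hS1 (eq_bot_iff.2 (hcore ▸
    (hF.isNormal_top_of_abelian hS (H7.isMulCommutative_iff_forall.1 h)).le_core))
  have hi : (Subgroup.center S).index = p ^ 2 := le_antisymm hZ
    (Nat.le_of_dvd (Nat.pos_of_ne_zero Subgroup.index_ne_zero_of_finite)
      (H9.sq_dvd_index_of_le_center hS hna le_rfl))
  have hi' : (S ⊓ Subgroup.centralizer (S : Set Ω)).relIndex S = p ^ 2 := by
    rw [Subgroup.inf_relIndex_left, ← H9.index_center_eq, hi]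
  have hc : Nat.card (Subgroup.center S) = p := by
    rw [H9.card_center_eq]
    by_cases h2 : p = 2
    · subst h2
      exact H9.card_center_of_index_sq_two hS hF hcore
        (hhyp.ge.trans (F.hyperfocalSubgroup_le_focalSubgroup 2)) hi'
    · exact H9.card_center_of_index_sq_odd hS hF (hp.odd_of_ne_two h2) hcore hi'
  have h3 : Nat.card S = p ^ 3 := by rw [← (Subgroup.center S).card_mul_index, hc, hi]; ring
  have hE := H9.isExtraspecial_of_card_cube h3 hna
  obtain ⟨E, hE'⟩ := H9.exists_essential_of_core_eq_bot hS hF hcore hS1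
  obtain ⟨M, h⟩ := H9.exists_essCtx hS hF hE'
  obtain ⟨R, A, ⟨e⟩, -, hR, -, h4, h5⟩ := h.genExtra_struct F.stronglyClosed_top
    (H9.IsExtraspecial.card_Phi hE) h.lt.not_ge
  have : Nontrivial S := H9.nontrivial_of_not_isMulCommutative hna
  refine ⟨hE, h3, fun h2 => (Monoid.exponent_eq_prime_iff hp).2 fun x hx =>
    orderOf_eq_prime (Subtype.ext (h5 h2 x x.2)) hx, fun h2 => ?_⟩
  obtain ⟨e'⟩ := h4 h2
  have h6 := Nat.card_congr e.toEquiv
  rw [Nat.card_prod, h3, hR, eq_comm, mul_eq_left₀ (pow_ne_zero 3 hp.ne_zero),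
    Nat.card_eq_one_iff_unique] at h6
  have : Unique A := @Unique.mk' _ ⟨1⟩ h6.1
  exact ⟨e.trans (MulEquiv.prodUnique.trans e')⟩

end Cfsg.Agent.S5265
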