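import Cfsg.Statements.S5269
import Cfsg.Agent.Lib.H3.MC6

set_option autoImplicit false
open Cfsg

namespace Cfsg.Agent.S5269

/-- Let p ≥ 5 be a prime, S a finite p-group of maximal class of order p^n with n ≥ 4, F a saturated fusion system over S, and E an F-essential subgroup that is normal in S. Then E has index p in S; moreover E is the two-step centralizer Γ₁ = C_S([S,S]/γ₄(S)) or E = C_S(Z₂(S)), unless S has order p^4 and E is extraspecial of order p³ and exponent p. -/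
theorem result {Ω : Type*} [Group Ω] {S : Subgroup Ω} [Finite S] (p : ℕ) [Fact p.Prime] (hS : IsPGroup p ↥S) (n : ℕ) (hn : Nat.card S = p ^ n) (h4 : 4 ≤ n) (hmax : Subgroup.lowerCentralSeries S (n - 2) ≠ ⊥) (F : Cfsg.FusionSystem S) (hF : F.IsSaturated p) (hp : 5 ≤ p) (Γ₁ : Subgroup Ω) (hΓ₁ : ∀ x : Ω, x ∈ Γ₁ ↔ x ∈ S ∧ ∀ y ∈ Subgroup.lowerCentralSeries S 1, x * y * x⁻¹ * y⁻¹ ∈ Subgroup.lowerCentralSeries S 3) (E : Subgroup Ω) (hE : F.IsEssential p E) (hEn : (E.subgroupOf S).Normal) : (E.subgroupOf S).index = p ∧ (E = Γ₁ ∨ E = (S ⊓ Subgroup.centralizer (((Subgroup.upperCentralSeries ↥S 2).map S.subtype) : Set Ω)) ∨ (n = 4 ∧ Nat.card ↥E = p ^ 3 ∧ Cfsg.IsExtraspecial p ↥E ∧ Monoid.exponent ↥E = p)) := by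
  have h : H9.MaxCl p S n := ⟨hS, hn, by omega, hmax⟩
  have e1 : Γ₁ = H9.gam S := Subgroup.ext fun x => hΓ₁ x
  have e2 : S ⊓ Subgroup.centralizer (((Subgroup.upperCentralSeries ↥S 2).map S.subtype) : Set Ω) =
      H9.cst S (n - 3) := by
    have e3 : (Subgroup.upperCentralSeries ↥S 2).map S.subtype = S.lowerCentralSeries (n - 3) :=
      (h.zeta_eq (i := 2) h4).trans (by congr 1)
    rw [e3]
    ext x
    refine and_congr_right fun _ => forall₂_congr fun y _ => ?_
    rw [h.eq_bot (by omega), Subgroup.mem_bot, commutatorElement_eq_one_iff_mul_comm, eq_comm]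
  rw [e1, e2]
  exact H3.MC.normal_essential h hp h4 hF hE
    ((Subgroup.normal_subgroupOf_iff_le_normalizer hE.le).1 hEn)

end Cfsg.Agent.S5269
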