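import Cfsg.Statements.S5270
import Cfsg.Agent.Lib.H9.Pearl

set_option autoImplicit false
open Cfsg

namespace Cfsg.Agent.S5270

/-- Let p ≥ 5 be a prime, S a finite p-group of maximal class of order p^n with n ≥ 4, and F a saturated fusion system over S. If some map of F defined on the second centre Z₂(S) with image Z₂(S) does not carry Z(S) into itself, then the centralizer C_S(Z₂(S)) is an F-essential subgroup. -/
theorem result {Ω : Type*} [Group Ω] {S : Subgroup Ω} [Finite S] (p : ℕ) [Fact p.Prime] (hS : IsPGroup p ↥S) (n : ℕ) (hn : Nat.card S = p ^ n) (h4 : 4 ≤ n) (hmax : Subgroup.lowerCentralSeries S (n - 2) ≠ ⊥) (F : Cfsg.FusionSystem S) (hF : F.IsSaturated p) (hp : 5 ≤ p) (φ : ↥((Subgroup.upperCentralSeries ↥S 2).map S.subtype) →* Ω) (hφ : φ ∈ F.Hom ((Subgroup.upperCentralSeries ↥S 2).map S.subtype)) (hφZ : φ.range = ((Subgroup.upperCentralSeries ↥S 2).map S.subtype)) (hmove : ∃ (z : Ω) (hz : z ∈ ((Subgroup.upperCentralSeries ↥S 2).map S.subtype)), z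 ∈ ((Subgroup.center ↥S).map S.subtype) ∧ φ ⟨z, hz⟩ ∉ ((Subgroup.center ↥S).map S.subtype)) : F.IsEssential p (S ⊓ Subgroup.centralizer (((Subgroup.upperCentralSeries ↥S 2).map S.subtype) : Set Ω)) := by
  obtain ⟨z, hz, h1, h2⟩ := hmove
  rw [H9.map_center_subtype] at h1 h2
  have hf : F.IsIso (H7.zeta S 2) (H7.zeta S 2) (FusionSystem.homFun φ) :=
    (FusionSystem.isMor_of_mem_Hom hφ).isIso_of_img_eq
      ((FusionSystem.range_eq_img fun x hx => (FusionSystem.homFun_of_mem φ hx).symm).symm.trans hφZ)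
  exact H9.MaxCl.isEssential_centralizer_zeta_two ⟨hS, hn, by omega, hmax⟩ h4 hF hf h1
    (by rwa [FusionSystem.homFun_of_mem φ hz])

end Cfsg.Agent.S5270
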