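import Cfsg.Statements.S5299
import Cfsg.Agent.Lib.H7.Crit
import Cfsg.Agent.Lib.H1.Qd

set_option autoImplicit false
universe u
open Cfsg

namespace Cfsg.Agent.S5299

open Cfsg.FusionSystem Cfsg.Agent.H7 Cfsg.Agent.H8

theorem involves_sylow {p : ℕ} [Fact p.Prime] {Q L : Type*} [Group Q] [Group L] [Finite L]
    (hQ : IsPGroup p Q) (h : Involves Q L) {T : Subgroup L} (hT : SylowIn p T ⊤) :
    Involves Q T := by
  obtain ⟨K, φ, hφ⟩ := H1.involves_iff.1 h
  obtain ⟨A, hA⟩ := exists_sylowIn p (⊤ : Subgroup K)
  have h1 := hA.map φ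
  rw [Subgroup.map_top_of_surjective φ hφ] at h1
  have h2 := h1.eq_of_isPGroup (hQ.to_subgroup ⊤)
  have h3 : Involves Q A := H1.involves_of_surjective (φ.comp A.subtype) fun y => by
    obtain ⟨x, hx, e⟩ : y ∈ A.map φ := h2 ▸ Subgroup.mem_top y
    exact ⟨⟨x, hx⟩, e⟩
  obtain ⟨b, -, hb⟩ := hT.exists_conj (hA.isPGroup.map K.subtype) le_top
  refine H1.involves_of_injective h3 ((((MulAut.conj b).toMonoidHom.comp K.subtype).comp
    A.subtype).codRestrict T fun x => hb _ ⟨x, x.2, rfl⟩) fun x y e => ?_
  exact Subtype.ext (Subtype.ext ((MulAut.conj b).injective (congrArg Subtype.val e)))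

/-- Let F be a saturated fusion system over a finite p-group S, H a finite group and Q a p-subgroup of H. If Q is not involved in S (no section of S is isomorphic to Q), then F is H-free: H is involved in no model of the normalizer system of a fully normalized centric subgroup. -/
theorem result {Ω : Type u} [Group Ω] {S : Subgroup Ω} [Finite S] (p : ℕ) [Fact p.Prime] (hS : IsPGroup p S)
    (F : Cfsg.FusionSystem S) (hF : F.IsSaturated p) (H : Type*) [Group H] [Finite H] (Q : Subgroup H) (hQ : IsPGroup p Q)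
    (hfree : ¬ Cfsg.Involves (↥Q) (↥S)) : F.IsSectionFree p H := by
  intro R _ _ N _ L _ ι hM hinv
  have := hM.1
  obtain ⟨T, hT⟩ := hM.2.2.1
  have h1 : Involves Q L := H1.involves_trans
    (H1.involves_of_subgroup (H1.involves_of_surjective (MonoidHom.id Q) Function.surjective_id))
    hinv
  have h2 := involves_sylow hQ h1 (hT ▸ sylowIn_sylow T)
  refine hfree (H1.involves_of_injective h2 ((Subgroup.inclusion normalizerIn_le).comp
    (MonoidHom.ofInjective hM.2.1.1).symm.toMonoidHom) ?_)
  exact (Subgroup.inclusion_injective normalizerIn_le).comp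
    (MonoidHom.ofInjective hM.2.1.1).symm.injective

end Cfsg.Agent.S5299
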