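import Cfsg.Statements.S5309
import Cfsg.Agent.Lib.Lead.Fitting

set_option autoImplicit false
open Cfsg

namespace Cfsg.Agent.S5309

/-- Self-centralizing property of the generalized Fitting subsystem. Let F be a saturated fusion system over a finite p-group S and D a generalized Fitting subsystem of F, over U. Then the centre of D is the largest subgroup Y of C_S(U) centralized by D in F, in the sense that every map of D extends to a map of F fixing Y elementwise: the centre of D is such a subgroup, and every such Y lies in the centre of D. -/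
theorem result {Ω : Type*} [Group Ω] {S : Subgroup Ω} [Finite S] (p : ℕ) [Fact p.Prime] (hS : IsPGroup p S) (F : Cfsg.FusionSystem S) (hF : F.IsSaturated p)
    {U : Subgroup Ω} (D : Cfsg.FusionSystem U) (hD : D.IsGeneralizedFittingOf F p) :
    (D.center ≤ Cfsg.FusionSystem.centralizerIn S U ∧ ∀ P : Subgroup Ω, D.Hom P ⊆ F.centralizerHom D.center P) ∧
      ∀ Y : Subgroup Ω, Y ≤ Cfsg.FusionSystem.centralizerIn S U →
        (∀ P : Subgroup Ω, D.Hom P ⊆ F.centralizerHom Y P) → Y ≤ D.center := by
  have hN := Cfsg.Agent.Lead.IsGenFit.isNormalIn hS hD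
  have hs := Cfsg.Agent.H8.Inv.sub hN.1.2.2
  have := Cfsg.FusionSystem.finite_of_le hs.le
  refine ⟨⟨D.center_le_centralizerIn.trans (Cfsg.FusionSystem.centralizerIn_mono_left hs.le),
    fun P => Cfsg.FusionSystem.hom_subset_centralizerHom_iff.2 fun f hf =>
      Cfsg.Agent.Lead.IsCentMor.of_sub ((Cfsg.FusionSystem.isCentral_iff_isCentMor D.center_le).1
        D.isCentral_center P f hf) hs⟩, fun Y hY h => ?_⟩
  exact (Cfsg.Agent.Lead.le_CE hY fun P f hf =>
    Cfsg.FusionSystem.hom_subset_centralizerHom_iff.1 (h P) f hf).trans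
    (Cfsg.Agent.Lead.IsGenFit.CE_le_center hS hD)

end Cfsg.Agent.S5309
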